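import Cfsg.Agent.J2Type.Model
import Cfsg.Prelude.Def_Transfer

/-!
# Automorphisms of `2^{1+4}_-` (S5175, StJA; helper745)
-/
set_option autoImplicit false

namespace Cfsg.Agent.H745.J3A

open Cfsg.Agent.J2Type.QStruct Cfsg.Agent.J2Type.Model Cfsg
open Equiv (Perm)

/-- five anticommuting involutions with product 1 covering an extraspecial group of order 32 -/
structure Ext {E : Type*} [Group E] (z : E) (v : Fin 5 → E) : Prop where
  hyp : Hyp (⊤ : Subgroup E) z
  five : Five (⊤ : Subgroup E) z v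
  d2 : ∀ i, v i ≠ 1 ∧ v i ≠ z
  d3 : ∀ i j, i ≠ j → v i ≠ v j ∧ v i ≠ z * v j

section

variable {E : Type*} [Group E] {z : E} {v : Fin 5 → E} (X : Ext z v)
include X

theorem aut_z (α : MulAut E) : α z = z := by
  rcases X.hyp.cent (α z) (fun q _ => by
    have h1 := X.hyp.z_comm (α⁻¹ q)
    have h2 := congrArg α h1
    rw [map_mul, map_mul, MulAut.apply_inv_self] at h2
    exact h2.symm) with h | h
  · exfalso
    exact X.hyp.z_ne ((map_eq_one_iff α α.injective).1 h)
  · exact h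

theorem aut_zp (α : MulAut E) (a : ZMod 2) : α (zp z a) = zp z a := by
  rcases zmod2_cases a with rfl | rfl
  · rw [zp_zero, map_one]
  · rw [zp_one, aut_z X]

theorem aut_exists (α : MulAut E) (i : Fin 5) : ∃ (a : ZMod 2) (j : Fin 5), α (v i) = zp z a * v j := by
  have hs : α (v i) * α (v i) = 1 := by rw [← map_mul, X.five.sq, map_one]
  rcases X.five.cover (α (v i)) (Subgroup.mem_top _) with (h1 | h1) | ⟨j, h1 | h1⟩ | ⟨j, k, hjk, h1⟩
  · exact absurd ((map_eq_one_iff α α.injective).1 h1) (X.d2 i).1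
  · exfalso
    rw [← aut_z X α] at h1
    exact (X.d2 i).2 (α.injective h1)
  · exact ⟨0, j, by rw [zp_zero, one_mul, h1]⟩
  · exact ⟨1, j, by rw [zp_one, h1]⟩
  · exfalso
    have hsq : (v j * v k) * (v j * v k) = z := by
      calc (v j * v k) * (v j * v k) = v j * (v k * v j) * v k := by group
        _ = v j * (z * (v j * v k)) * v k := by rw [X.five.anti k j hjk.ne']
        _ = (v j * z) * v j * (v k * v k) := by group
        _ = (z * v j) * v j * (v k * v k) := by rw [X.hyp.z_comm]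
        _ = z * (v j * v j) * (v k * v k) := by group
        _ = z := by rw [X.five.sq, X.five.sq, mul_one, mul_one]
    apply X.hyp.z_ne
    rcases h1 with h1 | h1
    · rw [h1, hsq] at hs; exact hs
    · rw [h1] at hs
      rw [← hs]
      calc z = z * z * (v j * v k * (v j * v k)) := by rw [hsq, X.hyp.z_sq, one_mul]
        _ = z * (z * (v j * v k)) * (v j * v k) := by group
        _ = z * ((v j * v k) * z) * (v j * v k) := by rw [X.hyp.z_comm]
        _ = _ := by group

theorem exists_rho : ∃ ρ : MulAut E →* SP, ∀ α i, α (v i) = zp z ((ρ α).s i) * v ((ρ α).σ i) := by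
  choose A J hAJ using aut_exists X
  have hJinj : ∀ c, Function.Injective (J c) := by
    intro c i k hik
    have e1 := hAJ c i
    have e2 := hAJ c k
    rw [← hik] at e2
    have e3 : c (v i) = c (zp z (A c i + A c k) * v k) := by
      rw [map_mul, aut_zp X, e1, e2, ← mul_assoc, ← zp_add z X.hyp.z_sq, add_assoc, CharTwo.add_self_eq_zero,
        add_zero]
    have := inj_v X.hyp X.d3 0 (A c i + A c k) i k (by rw [zp_zero, one_mul]; exact c.injective e3)
    exact this.2
  let P : MulAut E → SP := fun c => ⟨Equiv.ofBijective (J c) (Finite.injective_iff_bijective.1 (hJinj c)), A c⟩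
  refine ⟨MonoidHom.mk' P ?_, ?_⟩
  · intro c d
    have key : ∀ i, A (c * d) i = A d i + A c (J d i) ∧ J (c * d) i = J c (J d i) := by
      intro i
      apply inj_v X.hyp X.d3
      rw [← hAJ, MulAut.mul_apply, hAJ d i, map_mul, aut_zp X, hAJ c, ← mul_assoc, ← zp_add z X.hyp.z_sq]
    apply SP.ext
    · apply Equiv.ext
      intro i
      exact (key i).2
    · funext i
      exact (key i).1
  · intro c i
    exact hAJ c i

variable {ρ : MulAut E →* SP} (hρ : ∀ α i, α (v i) = zp z ((ρ α).s i) * v ((ρ α).σ i))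
include hρ

/-- the value of `ρ` is determined by the action -/
theorem rho_eq {α : MulAut E} {σ : Perm (Fin 5)} {s : Fin 5 → ZMod 2} (h : ∀ i, α (v i) = zp z (s i) * v (σ i)) :
    ρ α = ⟨σ, s⟩ := by
  have h1 : ∀ i, (ρ α).s i = s i ∧ (ρ α).σ i = σ i := by
    intro i
    apply inj_v X.hyp X.d3
    rw [← hρ, h]
  apply SP.ext
  · apply Equiv.ext
    intro i
    exact (h1 i).2
  · funext i
    exact (h1 i).1

theorem sum_eq (α : MulAut E) : ∑ i, (ρ α).s i = if Equiv.Perm.sign (ρ α).σ = 1 then 0 else 1 := by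
  have e1 : α (v 0 * v 1 * v 2 * v 3 * v 4) = 1 := by rw [X.five.prod, map_one]
  have e3 : ∀ (a0 a1 a2 a3 a4 : ZMod 2) (b0 b1 b2 b3 b4 : E),
      (zp z a0 * b0) * (zp z a1 * b1) * (zp z a2 * b2) * (zp z a3 * b3) * (zp z a4 * b4) =
      zp z (a0 + a1 + a2 + a3 + a4) * (b0 * b1 * b2 * b3 * b4) := by
    intro a0 a1 a2 a3 a4 b0 b1 b2 b3 b4
    have key : ∀ (a : ZMod 2) (b : E) (a' : ZMod 2) (b' : E), (zp z a * b) * (zp z a' * b') =
        zp z (a + a') * (b * b') := by
      intro a b a' b'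
      calc (zp z a * b) * (zp z a' * b') = zp z a * (b * zp z a') * b' := by group
        _ = zp z a * (zp z a' * b) * b' := by rw [zp_comm z X.hyp.z_comm]
        _ = (zp z a * zp z a') * (b * b') := by group
        _ = _ := by rw [zp_add z X.hyp.z_sq]
    rw [key, key, key, key]
  rw [map_mul, map_mul, map_mul, map_mul, hρ, hρ, hρ, hρ, hρ, e3,
    prod_perm X.hyp.z_sq X.hyp.z_comm v X.five.anti X.five.prod, ← zp_add z X.hyp.z_sq] at e1
  rw [Fin.sum_univ_five]
  rcases zmod2_cases ((ρ α).s 0 + (ρ α).s 1 + (ρ α).s 2 + (ρ α).s 3 + (ρ α).s 4 +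
      if Equiv.Perm.sign (ρ α).σ = 1 then 0 else 1) with h1 | h1
  · have h2 := congrArg (fun t => t + (if Equiv.Perm.sign (ρ α).σ = 1 then (0 : ZMod 2) else 1)) h1
    simp only [add_assoc, CharTwo.add_self_eq_zero, add_zero, zero_add] at h2 ⊢
    exact h2
  · rw [h1, zp_one] at e1
    exact absurd e1 X.hyp.z_ne

omit hρ in
/-- automorphisms agreeing on the `v i` are equal -/
theorem aut_ext {α β : MulAut E} (h : ∀ i, α (v i) = β (v i)) : α = β := by
  apply MulEquiv.ext
  intro q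
  rcases X.five.cover q (Subgroup.mem_top _) with (h1 | h1) | ⟨j, h1 | h1⟩ | ⟨j, k, -, h1 | h1⟩
  · rw [h1, map_one, map_one]
  · rw [h1, aut_z X, aut_z X]
  · rw [h1, h]
  · rw [h1, map_mul, map_mul, aut_z X, aut_z X, h]
  · rw [h1, map_mul, map_mul, h, h]
  · rw [h1, map_mul, map_mul, map_mul, map_mul, aut_z X, aut_z X, h, h]

/-- the kernel of the action on the five pairs consists of inner automorphisms -/
theorem exists_conj_of_one {α : MulAut E} (h : (ρ α).σ = 1) : ∃ q : E, α = MulAut.conj q := by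
  have hs : ∑ i, (ρ α).s i = 0 := by
    rw [sum_eq X hρ, h, Equiv.Perm.sign_one, if_pos rfl]
  obtain ⟨q, -, hqs⟩ := exists_sign X.hyp X.five (ρ α).s hs
  refine ⟨q, aut_ext X fun i => ?_⟩
  rw [MulAut.conj_apply, hqs, hρ, h, Equiv.Perm.one_apply]

theorem conj_σ (q : E) : (ρ (MulAut.conj q)).σ = 1 := by
  apply Equiv.ext
  intro i
  rw [Equiv.Perm.one_apply]
  have h0 := hρ (MulAut.conj q) i
  rw [MulAut.conj_apply] at h0
  rcases X.hyp.comm q (Subgroup.mem_top _) (v i) (Subgroup.mem_top _) with h1 | h1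
  · have h2 : q * v i * q⁻¹ = zp z 0 * v i := by rw [h1, zp_zero]; group
    rw [h0] at h2
    exact (inj_v X.hyp X.d3 _ _ _ _ h2).2
  · have h2 : q * v i * q⁻¹ = zp z 1 * v i := by rw [h1, zp_one]; group
    rw [h0] at h2
    exact (inj_v X.hyp X.d3 _ _ _ _ h2).2

end

/-! ## Permutations -/

/-- the permutation part -/
def pm {E : Type*} [Group E] (ρ : MulAut E →* SP) : MulAut E →* Perm (Fin 5) where
  toFun c := (ρ c).σ
  map_one' := by rw [map_one]; rfl
  map_mul' x y := by rw [map_mul]; rfl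

theorem pm_apply {E : Type*} [Group E] (ρ : MulAut E →* SP) (c : MulAut E) : pm ρ c = (ρ c).σ := rfl

theorem p1 : ∀ i j : Fin 5, i ≠ 0 → j ≠ 0 → ∃ x : Perm (Fin 5), Perm.sign x = 1 ∧ x * x = 1 ∧ x 0 = 0 ∧ x i = j := by
  decide +kernel

theorem p2 : ∀ x : Perm (Fin 5), Perm.sign x = 1 → x * x = 1 → ∃ i, x i = i := by decide +kernel

theorem p3' : ∀ x : Perm (Fin 5), Perm.sign x = 1 → ∃ u : Perm (Fin 5), Perm.sign u = 1 ∧ u * u = 1 ∧
    Perm.sign (u⁻¹ * x) = 1 ∧ u⁻¹ * x * (u⁻¹ * x) = 1 := by decide +kernel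

theorem p3 : ∀ x : Perm (Fin 5), Perm.sign x = 1 → ∃ u w : Perm (Fin 5), Perm.sign u = 1 ∧ u * u = 1 ∧
    Perm.sign w = 1 ∧ w * w = 1 ∧ x = u * w := by
  intro x hx
  obtain ⟨u, h1, h2, h3, h4⟩ := p3' x hx
  exact ⟨u, u⁻¹ * x, h1, h2, h3, h4, (mul_inv_cancel_left u x).symm⟩

theorem p4' : ∀ x : Perm (Fin 5), Perm.sign x = 1 → ∃ u : Perm (Fin 5), u * u * u = 1 ∧
    u⁻¹ * x * (u⁻¹ * x) * (u⁻¹ * x) = 1 := by
  decide +kernel

theorem p4 : ∀ x : Perm (Fin 5), Perm.sign x = 1 → ∃ u w : Perm (Fin 5), u * u * u = 1 ∧ w * w * w = 1 ∧ x = u * w := by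
  intro x hx
  obtain ⟨u, h1, h2⟩ := p4' x hx
  exact ⟨u, u⁻¹ * x, h1, h2, (mul_inv_cancel_left u x).symm⟩

theorem p5 : ∀ x : Perm (Fin 5), x * x * x = 1 → Perm.sign x = 1 := by decide +kernel

theorem p6 : ∀ i j : Fin 5, i ≠ j → ∃ x : Perm (Fin 5), Perm.sign x = 1 ∧ x i = j := by decide +kernel

theorem p7 : ∀ x : Perm (Fin 5), Perm.sign x = 1 → x 0 = 0 → x * x * (x * x) = 1 → x * x = 1 := by decide +kernel

/-- a subgroup containing the Klein group fixing 0 and moving 0 contains the alternating group -/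
theorem alt_le {X : Subgroup (Perm (Fin 5))} (hV : ∀ x, Perm.sign x = 1 → x * x = 1 → x 0 = 0 → x ∈ X)
    {g : Perm (Fin 5)} (hg : g ∈ X) (hg0 : g 0 ≠ 0) (x : Perm (Fin 5)) (hx : Perm.sign x = 1) : x ∈ X := by
  have htr : ∀ j : Fin 5, ∃ h ∈ X, h 0 = j := by
    intro j
    by_cases hj : j = 0
    · exact ⟨1, X.one_mem, by rw [hj]; rfl⟩
    · obtain ⟨w, h1, h2, h3, h4⟩ := p1 (g 0) j hg0 hj
      exact ⟨w * g, X.mul_mem (hV w h1 h2 h3) hg, by rw [Perm.mul_apply, h4]⟩
  have hinv : ∀ x : Perm (Fin 5), Perm.sign x = 1 → x * x = 1 → x ∈ X := by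
    intro x h1 h2
    obtain ⟨i, hi⟩ := p2 x h1 h2
    obtain ⟨h, hh, hh0⟩ := htr i
    have h3 : h⁻¹ * x * h ∈ X := by
      apply hV
      · rw [map_mul, map_mul, h1, map_inv, mul_one, inv_mul_cancel]
      · calc h⁻¹ * x * h * (h⁻¹ * x * h) = h⁻¹ * (x * x) * h := by group
          _ = 1 := by rw [h2]; group
      · rw [Perm.mul_apply, Perm.mul_apply, hh0, hi, Perm.inv_eq_iff_eq, hh0]
    have h4 := X.mul_mem (X.mul_mem hh h3) (X.inv_mem hh)
    have h5 : h * (h⁻¹ * x * h) * h⁻¹ = x := by group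
    rwa [h5] at h4
  obtain ⟨u, w, h1, h2, h3, h4, rfl⟩ := p3 x hx
  exact X.mul_mem (hinv u h1 h2) (hinv w h3 h4)

/-! ## The subgroup of index two -/

section main

variable {E : Type*} [Group E] [Finite E] {z : E} {v : Fin 5 → E} (X : Ext z v)
variable {ρ : MulAut E →* SP} (hρ : ∀ α i, α (v i) = zp z ((ρ α).s i) * v ((ρ α).σ i))
include X hρ

omit X hρ [Finite E] in
/-- a suitable odd/2-power splitting: `g ^ n` has odd order, `n` a power of 2, `g ^ m` has 2-power order, `m` odd -/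
theorem exists_pow {G : Type*} [Group G] [Finite G] (g : G) :
    (∃ k : ℕ, Nat.Coprime (orderOf (g ^ 2 ^ k)) 2) ∧ ∃ m : ℕ, Odd m ∧ ∃ k : ℕ, (g ^ m) ^ 2 ^ k = 1 := by
  have hpos : orderOf g ≠ 0 := (orderOf_pos g).ne'
  obtain ⟨k, m, hm, hkm⟩ := Nat.exists_eq_two_pow_mul_odd hpos
  constructor
  · refine ⟨k, ?_⟩
    rw [orderOf_pow_of_dvd (by positivity) (by rw [hkm]; exact Dvd.intro _ rfl), hkm,
      Nat.mul_div_cancel_left _ (by positivity)]
    exact hm.coprime_two_right
  · refine ⟨m, hm, k, ?_⟩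
    rw [← pow_mul, mul_comm, ← hkm, pow_orderOf_eq_one]

/-- `O^2(Aut E)` consists of the automorphisms inducing even permutations of the five pairs, if all of these are
induced. -/
theorem eq_pResidual (A : Subgroup (MulAut E)) (hInn : ∀ q : E, MulAut.conj q ∈ A)
    (hev : ∀ α ∈ A, Perm.sign (ρ α).σ = 1) (hall : ∀ x : Perm (Fin 5), Perm.sign x = 1 → ∃ α ∈ A, (ρ α).σ = x) :
    A = pResidual 2 (MulAut E) := by
  have hfin : Finite (MulAut E) := inferInstance
  -- elements with even permutation are in `A`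
  have hA : ∀ α : MulAut E, Perm.sign (ρ α).σ = 1 → α ∈ A := by
    intro α h
    obtain ⟨β, hβ, hβe⟩ := hall _ h
    have h1 : pm ρ (β⁻¹ * α) = 1 := by
      rw [map_mul, map_inv, pm_apply, pm_apply, hβe, inv_mul_cancel]
    obtain ⟨q, hq⟩ := exists_conj_of_one X hρ h1
    have h2 := A.mul_mem hβ (hInn q)
    rwa [← hq, mul_inv_cancel_left] at h2
  set O := pResidual 2 (MulAut E) with hO
  have hOmem : ∀ g : MulAut E, Nat.Coprime (orderOf g) 2 → g ∈ O := fun g hg => Subgroup.subset_closure hg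
  have hOn : ∀ g ∈ O, ∀ h : MulAut E, h * g * h⁻¹ ∈ O := by
    intro g hg h
    have h1 : O.map (MulAut.conj h).toMonoidHom ≤ O := by
      rw [hO, pResidual, MonoidHom.map_closure, Subgroup.closure_le]
      rintro _ ⟨x, hx, rfl⟩
      apply Subgroup.subset_closure
      show Nat.Coprime (orderOf (MulAut.conj h x)) 2
      rw [(MulAut.conj h).orderOf_eq]
      exact hx
    exact h1 ⟨g, hg, rfl⟩
  apply le_antisymm
  · -- `π(O)` contains the alternating group
    have hO3 : ∀ x : Perm (Fin 5), x * x * x = 1 → ∃ α ∈ O, (ρ α).σ = x := by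
      intro x hx
      obtain ⟨α, -, hα⟩ := hall x (p5 x hx)
      obtain ⟨⟨k, hk⟩, -⟩ := exists_pow α
      have h1 : pm ρ (α ^ 2 ^ k) = x ^ 2 ^ k := by rw [map_pow, pm_apply, hα]
      have h2 : ∀ k : ℕ, x ^ 2 ^ k = x ∨ x ^ 2 ^ k = x * x := by
        intro k
        induction k with
        | zero => left; rw [pow_zero, pow_one]
        | succ k ih =>
          rw [pow_succ, pow_mul, pow_two]
          rcases ih with h | h
          · right; rw [h]
          · left
            rw [h]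
            calc x * x * (x * x) = x * x * x * x := by group
              _ = x := by rw [hx, one_mul]
      rcases h2 k with h | h
      · exact ⟨_, hOmem _ hk, h1.trans h⟩
      · refine ⟨α ^ 2 ^ k * α ^ 2 ^ k, O.mul_mem (hOmem _ hk) (hOmem _ hk), ?_⟩
        have h3 : pm ρ (α ^ 2 ^ k * α ^ 2 ^ k) = x := by
          rw [map_mul, h1, h]
          calc x * x * (x * x) = x * x * x * x := by group
            _ = x := by rw [hx, one_mul]
        exact h3
    have hOall : ∀ x : Perm (Fin 5), Perm.sign x = 1 → ∃ α ∈ O, (ρ α).σ = x := by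
      intro x hx
      obtain ⟨u, w, h1, h2, rfl⟩ := p4 x hx
      obtain ⟨α, hα, hαu⟩ := hO3 u h1
      obtain ⟨β, hβ, hβw⟩ := hO3 w h2
      refine ⟨α * β, O.mul_mem hα hβ, ?_⟩
      rw [map_mul, mul_σ, hαu, hβw]
    -- inner automorphisms
    let N : Subgroup E := O.comap (MulAut.conj : E →* MulAut E)
    have hzN : z ∈ N := by
      show MulAut.conj z ∈ O
      have : MulAut.conj z = 1 := by
        apply MulEquiv.ext
        intro q
        rw [MulAut.conj_apply, MulAut.one_apply, ← X.hyp.z_comm, mul_inv_cancel_right]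
      rw [this]; exact O.one_mem
    have hN : ∀ α ∈ O, ∀ r : E, α r * r⁻¹ ∈ N := by
      intro α hα r
      show MulAut.conj (α r * r⁻¹) ∈ O
      have h1 : MulAut.conj (α r * r⁻¹) = α * (MulAut.conj r * α⁻¹ * (MulAut.conj r)⁻¹) := by
        apply MulEquiv.ext
        intro q
        simp only [MulAut.conj_apply, MulAut.mul_apply, map_mul, map_inv]
        rw [← map_inv MulAut.conj, MulAut.conj_apply]
        simp only [map_mul, map_inv, MulAut.apply_inv_self, inv_inv]
      rw [h1]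
      exact O.mul_mem hα (hOn _ (O.inv_mem hα) _)
    have hvv : ∀ i j, i ≠ j → v j * v i ∈ N := by
      intro i j hij
      obtain ⟨x, hx, hxi⟩ := p6 i j hij
      obtain ⟨α, hα, hαx⟩ := hOall x hx
      have h1 := hN α hα (v i)
      rw [hρ, hαx, hxi, inv_eq_of_mul_eq_one_left (X.five.sq i), mul_assoc] at h1
      rcases zmod2_cases ((ρ α).s i) with h2 | h2
      · rwa [h2, zp_zero, one_mul] at h1
      · rw [h2, zp_one] at h1
        have h3 := N.mul_mem (N.inv_mem hzN) h1
        rwa [inv_mul_cancel_left] at h3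
    have hv4 : v 4 ∈ N := by
      have h1 := N.mul_mem (hvv 1 0 (by decide)) (hvv 3 2 (by decide))
      have h2 : v 0 * v 1 * (v 2 * v 3) * v 4 = 1 := by
        rw [← X.five.prod]; simp only [mul_assoc]
      have h3 : v 4 = (v 0 * v 1 * (v 2 * v 3))⁻¹ := eq_inv_of_mul_eq_one_right h2
      rw [h3]
      exact N.inv_mem h1
    have hvi : ∀ i, v i ∈ N := by
      intro i
      by_cases hi : i = 4
      · rw [hi]; exact hv4
      · have h1 := N.mul_mem (hvv 4 i (fun h => hi h.symm)) hv4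
        rwa [mul_assoc, X.five.sq, mul_one] at h1
    have hNtop : ∀ q : E, q ∈ N := by
      intro q
      rcases X.five.cover q (Subgroup.mem_top _) with (h1 | h1) | ⟨j, h1 | h1⟩ | ⟨j, k, -, h1 | h1⟩
      · rw [h1]; exact N.one_mem
      · rw [h1]; exact hzN
      · rw [h1]; exact hvi j
      · rw [h1]; exact N.mul_mem hzN (hvi j)
      · rw [h1]; exact N.mul_mem (hvi j) (hvi k)
      · rw [h1]; exact N.mul_mem hzN (N.mul_mem (hvi j) (hvi k))
    intro α hα
    obtain ⟨β, hβ, hβe⟩ := hOall _ (hev α hα)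
    have h1 : pm ρ (β⁻¹ * α) = 1 := by
      rw [map_mul, map_inv, pm_apply, pm_apply, hβe, inv_mul_cancel]
    obtain ⟨q, hq⟩ := exists_conj_of_one X hρ h1
    have h2 : MulAut.conj q ∈ O := hNtop q
    have h3 := O.mul_mem hβ h2
    rwa [← hq, mul_inv_cancel_left] at h3
  · rw [hO, pResidual, Subgroup.closure_le]
    intro g hg
    apply hA
    have h1 : Perm.sign (pm ρ g) ^ orderOf g = 1 := by
      rw [← map_pow, ← map_pow, pow_orderOf_eq_one, map_one, map_one]
    have hodd : Odd (orderOf g) := Nat.coprime_two_right.1 hg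
    rcases Int.units_eq_one_or (Perm.sign (pm ρ g)) with h2 | h2
    · exact h2
    · exfalso
      rw [h2, hodd.neg_one_pow] at h1
      exact absurd h1 (by decide)

end main

end Cfsg.Agent.H745.J3A
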